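import Cfsg.Agent.Lib.CosetEnum.LyP.Table
import Cfsg.Agent.Lib.CosetEnum.LyP.B3906
import Cfsg.Agent.Lib.CosetEnum.LyP.B3125
import Cfsg.Agent.Lib.CosetEnum.LyP.B480
import Cfsg.Agent.Lib.CosetEnum.Chain
import Cfsg.Agent.Lib.CosetEnum.Simple
import Cfsg.Agent.Lib.CosetEnum.BasePts

/-!
The group `P` presented by the relations 1-44 of the presented Lyons group has order 5859000000
and acts faithfully on 3906 points: three coset enumerations (3906, 3125, 480) bound the order from
above, the action bounds it from below.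
-/

set_option autoImplicit false
set_option maxRecDepth 20000

namespace Cfsg.Agent.Lib.CosetEnum.LyP

open Cfsg.Agent.Lib.CosetEnum Cfsg.Agent.Lib.ExactCover

/-- The closure of letter singletons is unchanged by adding their inverses. -/
theorem subOf_evens (ls full : List ℕ) (hsub : ∀ g ∈ full, g < 10 ∧ (g ∈ ls ∨ invL letters.IV g ∈ ls))
    (hls : ∀ g ∈ ls, g ∈ full) :
    subOf letters pres (ls.map fun g => [g]) = subOf letters pres (full.map fun g => [g]) := by
  apply le_antisymm
  · refine Subgroup.closure_mono ?_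
    rintro x ⟨l, hl, rfl⟩
    obtain ⟨g, hg, rfl⟩ := List.mem_map.1 hl
    exact ⟨[g], List.mem_map.2 ⟨g, hls g hg, rfl⟩, rfl⟩
  · refine (Subgroup.closure_le _).2 ?_
    rintro x ⟨l, hl, rfl⟩
    obtain ⟨g, hg, rfl⟩ := List.mem_map.1 hl
    obtain ⟨hlt, h | h⟩ := hsub g hg
    · exact Subgroup.subset_closure ⟨[g], List.mem_map.2 ⟨g, h, rfl⟩, rfl⟩
    · have hmem : val [invL letters.IV g] ∈ subOf letters pres (ls.map fun g => [g]) :=
        Subgroup.subset_closure ⟨_, List.mem_map.2 ⟨_, h, rfl⟩, rfl⟩
      have he := (Letters.phi_inv rels_mem letters_ok (g := g) (hlt.le.trans_eq rfl)).2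
      simp only [val, List.map_cons, List.map_nil, List.prod_cons, List.prod_nil, mul_one, he] at hmem ⊢
      exact inv_inv (letters.phi pres g) ▸ Subgroup.inv_mem _ hmem

theorem card_ab : Nat.card (subOf letters pres (([0, 2] : List ℕ).map fun g => [g])) ≠ 0 ∧
    Nat.card (subOf letters pres (([0, 2] : List ℕ).map fun g => [g])) ≤ 480 := by
  rw [subOf_evens [0, 2] [0, 1, 2, 3] (by decide +kernel) (by decide +kernel)]
  have h := B480.bound 1 (card_subOf_nil letters pres)
  rwa [mul_one] at h

theorem card_abc : Nat.card (subOf letters pres (([0, 2, 4] : List ℕ).map fun g => [g])) ≠ 0 ∧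
    Nat.card (subOf letters pres (([0, 2, 4] : List ℕ).map fun g => [g])) ≤ 1500000 := by
  rw [subOf_evens [0, 2, 4] [0, 1, 2, 3, 4, 5] (by decide +kernel) (by decide +kernel)]
  exact B3125.bound 480 card_ab

theorem card_le : Nat.card (PresentedGroup pres) ≠ 0 ∧ Nat.card (PresentedGroup pres) ≤ 5859000000 := by
  have h := B3906.bound 1500000 card_abc
  have htop : subOf letters pres (([0, 1, 2, 3, 4, 5, 6, 7, 8, 9] : List ℕ).map fun g => [g]) = ⊤ :=
    subOf_range_eq_top letters pres letters_col
  rwa [htop, Subgroup.card_top] at h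

instance finite : Finite (PresentedGroup pres) := Nat.finite_of_card_ne_zero card_le.1

theorem card_P : Nat.card (PresentedGroup pres) = 5859000000 ∧ Function.Injective act := by
  have h1 := act_card_ge
  have h2 := Nat.card_le_card_of_surjective _ act.rangeRestrict_surjective
  have h3 := card_le.2
  have hbij : Function.Bijective act.rangeRestrict :=
    (Nat.bijective_iff_surjective_and_card _).2 ⟨act.rangeRestrict_surjective, by omega⟩
  exact ⟨by omega, fun a b h => hbij.1 (Subtype.ext h)⟩

theorem act_word (l : List ℕ) (hl : ∀ g ∈ l, g < 10) (i : Fin 3906) :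
    ((act (val l))⁻¹ i).1 = scan 10 table l i.1 := by
  induction l generalizing i with
  | nil => simp [val, scan]
  | cons g l ih =>
    rw [val, List.map_cons, List.prod_cons, map_mul, mul_inv_rev, Equiv.Perm.mul_apply,
      ih (fun x hx => hl x (List.mem_cons_of_mem _ hx)), act_phi g (hl g List.mem_cons_self)]
    change scan 10 table l (get32 table (i.1 * 10 + g)) =
      force (get32 table (Nat.add (Nat.mul i.1 10) g)) (scan 10 table l)
    rw [force_eq]
    rfl

/-- The base of the stabiliser chain. -/
noncomputable def levels : List OrbLevel :=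
  [LyPSlp.level0, LyPSlp.level1, LyPSlp.level2, LyPSlp.level3]

/-- Words are equal in `P` when they agree on the four base points. -/
theorem val_eq_of_base (u v : List ℕ) (hu : ∀ g ∈ u, g < 10) (hv : ∀ g ∈ v, g < 10)
    (h : ∀ b ∈ [0, 1, 2, 4], scan 10 table u b = scan 10 table v b) : val u = val v := by
  obtain ⟨hcard, hinj⟩ := card_P
  have hfix : Nat.card (fixList (N := 3906) act []) ≤ chainSize levels := by
    have he : chainSize levels = 5859000000 := LyPSlp.size_eq
    rw [he, ← hcard]
    exact (Nat.card_le_card_of_injective (fun σ : fixList act [] => (⟨σ.1, σ.2.1⟩ : act.range))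
      fun _ _ huv => Subtype.ext (congrArg (fun z : act.range => (z.1 : Equiv.Perm (Fin 3906))) huv)).trans
      (Nat.card_le_card_of_surjective _ act.rangeRestrict_surjective)
  have ht := tight_of_levels act (slp_sound act _ act_phi LyPSlp.slp_ok) levels [] LyPSlp.levels_ok hfix
  have heq : act (val u) * (act (val v))⁻¹ = 1 := by
    refine Tight.eq_one act ht _ ⟨mul_mem ⟨_, rfl⟩ (inv_mem ⟨_, rfl⟩), by simp⟩ ?_
    intro l hl b hb
    have hbase : ∀ l ∈ levels, l.base ∈ [0, 1, 2, 4] := by
      simp [levels, LyPSlp.level0, LyPSlp.level1, LyPSlp.level2, LyPSlp.level3]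
    have hbb : b.1 ∈ [0, 1, 2, 4] := hb ▸ hbase l hl
    have hk : (act (val v))⁻¹ b = (act (val u))⁻¹ b :=
      Fin.ext (by rw [act_word _ hu, act_word _ hv, h _ hbb])
    rw [Equiv.Perm.mul_apply, hk]
    simp
  exact hinj (mul_inv_eq_one.1 heq)

end Cfsg.Agent.Lib.CosetEnum.LyP
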