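import Cfsg.Agent.Lib.CosetEnum.Word
import Cfsg.Agent.Lib.ExactCover.Std

/-! The group presented on `a, b, c, d, e` by the relations 1-44 of the presented Lyons group, the
generators `c1, ..., c5` replaced by their words.  Letters: `a, a⁻¹, b, b⁻¹, c, c⁻¹, d, d⁻¹, e, e⁻¹`. -/

set_option autoImplicit false
set_option maxRecDepth 20000
set_option Elab.async false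

namespace Cfsg.Agent.Lib.CosetEnum.LyP

open Cfsg.Agent.Lib.CosetEnum Cfsg.Agent.Lib.ExactCover

/-- The relator words. -/
def relWords : List (List ℕ) := [[8, 8],
    [3, 7, 2, 6],
    [2, 2, 2, 2, 2],
    [4, 4, 4, 4, 4],
    [1, 1, 3, 0, 0, 2],
    [6, 6, 1, 1, 1, 1],
    [7, 0, 6, 1, 1, 1],
    [1, 1, 4, 0, 0, 4, 4],
    [9, 4, 8, 4, 3, 3, 5],
    [0, 0, 0, 0, 0, 0, 0, 0],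
    [0, 2, 0, 2, 0, 2, 0, 2],
    [9, 2, 4, 3, 8, 2, 5, 3, 3, 4, 3],
    [9, 2, 8, 2, 4, 4, 3, 3, 4, 2, 5],
    [1, 3, 0, 2, 1, 3, 0, 2, 1, 3, 0, 2],
    [1, 5, 0, 2, 5, 3, 1, 4, 0, 2, 4, 3],
    [3, 3, 4, 2, 4, 4, 2, 2, 5, 3, 5, 5],
    [1, 3, 4, 2, 0, 2, 5, 3, 5, 3, 4, 4, 2],
    [9, 3, 4, 2, 8, 0, 2, 4, 3, 4, 1, 5, 3, 3],
    [5, 1, 5, 0, 5, 1, 4, 0, 4, 1, 5, 0, 4, 1, 4, 0],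
    [3, 1, 4, 0, 2, 2, 4, 3, 4, 2, 4, 3, 3, 5, 2, 1, 5, 0],
    [3, 5, 1, 5, 0, 4, 1, 4, 0, 2, 1, 5, 0, 5, 1, 4, 0, 4],
    [8, 7, 5, 7, 2, 1, 3, 5, 7, 1, 5, 0, 5, 1, 4, 0, 2, 2],
    [9, 5, 1, 5, 0, 4, 1, 4, 0, 8, 2, 4, 3, 5, 3, 4, 2, 5],
    [8, 0, 0, 8, 2, 4, 3, 1, 5, 0, 5, 1, 4, 2, 1, 3, 3, 1],
    [8, 0, 2, 2, 0, 3, 0, 8, 2, 4, 3, 1, 5, 0, 5, 1, 4, 1],
    [1, 2, 4, 3, 0, 2, 5, 3, 5, 2, 5, 3, 3, 4, 2, 1, 4, 0, 5],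
    [1, 5, 5, 0, 5, 1, 4, 0, 4, 1, 4, 0, 5, 1, 5, 0, 4, 1, 4, 0],
    [1, 5, 0, 3, 5, 2, 1, 4, 0, 3, 4, 2, 5, 1, 5, 0, 4, 1, 4, 0],
    [3, 5, 2, 2, 5, 3, 3, 4, 2, 2, 4, 3, 5, 1, 5, 0, 4, 1, 4, 0],
    [3, 5, 2, 1, 5, 0, 5, 1, 4, 0, 4, 3, 4, 2, 5, 1, 5, 0, 4, 1, 4, 0],
    [2, 5, 3, 1, 5, 0, 5, 1, 4, 0, 4, 2, 4, 3, 5, 1, 5, 0, 4, 1, 4, 0],
    [8, 1, 4, 0, 8, 1, 5, 0, 8, 1, 4, 0, 2, 5, 3, 0, 3, 4, 2, 0, 0, 0],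
    [5, 3, 5, 2, 4, 3, 4, 2, 5, 1, 5, 0, 4, 1, 4, 0, 5, 1, 5, 0, 4, 1, 4, 0],
    [5, 2, 5, 3, 4, 2, 4, 3, 1, 5, 0, 5, 1, 4, 0, 4, 1, 5, 0, 5, 1, 4, 0, 4],
    [1, 5, 1, 5, 0, 4, 1, 4, 0, 5, 0, 5, 1, 4, 0, 4, 1, 5, 0, 5, 1, 4, 0, 4],
    [6, 9, 3, 1, 4, 9, 1, 9, 1, 5, 1, 5, 0, 4, 1, 4, 0, 2, 4, 3, 4, 2, 0, 3, 3, 1],
    [6, 5, 1, 5, 0, 4, 1, 4, 0, 6, 1, 5, 0, 5, 1, 4, 0, 4, 6, 5, 1, 5, 0, 4, 1, 4, 1],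
    [5, 1, 5, 0, 4, 1, 4, 0, 5, 1, 5, 0, 4, 1, 4, 0, 5, 1, 5, 0, 4, 1, 4, 0, 5, 1, 5, 0, 4, 1, 4, 0, 5, 1, 5, 0, 4, 1, 4, 0],
    [6, 5, 1, 5, 0, 4, 1, 4, 0, 6, 5, 1, 5, 0, 4, 1, 4, 0, 6, 5, 1, 5, 0, 4, 1, 4, 0, 6, 5, 1, 5, 0, 4, 1, 4, 0, 6, 5, 1, 5, 0, 4, 1, 4, 0]]

/-- The number of the relation of each word. -/
def relIdx : List ℕ := [30, 41, 2, 11, 4, 40, 42, 22, 31, 1, 3, 33, 36, 5, 20, 27, 23, 32, 13, 26, 28, 29, 34, 35, 37, 24, 14, 19, 21, 15, 16, 38, 17, 18, 25, 39, 44, 12, 43]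

/-- Letters and relator words. -/
noncomputable def letters : Letters (Fin 5) :=
  stdLetters 5 0x290931c8510c01
    [[],
    [8, 8],
    [3, 7, 2, 6],
    [2, 2, 2, 2, 2],
    [4, 4, 4, 4, 4],
    [1, 1, 3, 0, 0, 2],
    [6, 6, 1, 1, 1, 1],
    [7, 0, 6, 1, 1, 1],
    [1, 1, 4, 0, 0, 4, 4],
    [9, 4, 8, 4, 3, 3, 5],
    [0, 0, 0, 0, 0, 0, 0, 0],
    [0, 2, 0, 2, 0, 2, 0, 2],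
    [9, 2, 4, 3, 8, 2, 5, 3, 3, 4, 3],
    [9, 2, 8, 2, 4, 4, 3, 3, 4, 2, 5],
    [1, 3, 0, 2, 1, 3, 0, 2, 1, 3, 0, 2],
    [1, 5, 0, 2, 5, 3, 1, 4, 0, 2, 4, 3],
    [3, 3, 4, 2, 4, 4, 2, 2, 5, 3, 5, 5],
    [1, 3, 4, 2, 0, 2, 5, 3, 5, 3, 4, 4, 2],
    [9, 3, 4, 2, 8, 0, 2, 4, 3, 4, 1, 5, 3, 3],
    [5, 1, 5, 0, 5, 1, 4, 0, 4, 1, 5, 0, 4, 1, 4, 0],
    [3, 1, 4, 0, 2, 2, 4, 3, 4, 2, 4, 3, 3, 5, 2, 1, 5, 0],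
    [3, 5, 1, 5, 0, 4, 1, 4, 0, 2, 1, 5, 0, 5, 1, 4, 0, 4],
    [8, 7, 5, 7, 2, 1, 3, 5, 7, 1, 5, 0, 5, 1, 4, 0, 2, 2],
    [9, 5, 1, 5, 0, 4, 1, 4, 0, 8, 2, 4, 3, 5, 3, 4, 2, 5],
    [8, 0, 0, 8, 2, 4, 3, 1, 5, 0, 5, 1, 4, 2, 1, 3, 3, 1],
    [8, 0, 2, 2, 0, 3, 0, 8, 2, 4, 3, 1, 5, 0, 5, 1, 4, 1],
    [1, 2, 4, 3, 0, 2, 5, 3, 5, 2, 5, 3, 3, 4, 2, 1, 4, 0, 5],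
    [1, 5, 5, 0, 5, 1, 4, 0, 4, 1, 4, 0, 5, 1, 5, 0, 4, 1, 4, 0],
    [1, 5, 0, 3, 5, 2, 1, 4, 0, 3, 4, 2, 5, 1, 5, 0, 4, 1, 4, 0],
    [3, 5, 2, 2, 5, 3, 3, 4, 2, 2, 4, 3, 5, 1, 5, 0, 4, 1, 4, 0],
    [3, 5, 2, 1, 5, 0, 5, 1, 4, 0, 4, 3, 4, 2, 5, 1, 5, 0, 4, 1, 4, 0],
    [2, 5, 3, 1, 5, 0, 5, 1, 4, 0, 4, 2, 4, 3, 5, 1, 5, 0, 4, 1, 4, 0],
    [8, 1, 4, 0, 8, 1, 5, 0, 8, 1, 4, 0, 2, 5, 3, 0, 3, 4, 2, 0, 0, 0],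
    [5, 3, 5, 2, 4, 3, 4, 2, 5, 1, 5, 0, 4, 1, 4, 0, 5, 1, 5, 0, 4, 1, 4, 0],
    [5, 2, 5, 3, 4, 2, 4, 3, 1, 5, 0, 5, 1, 4, 0, 4, 1, 5, 0, 5, 1, 4, 0, 4],
    [1, 5, 1, 5, 0, 4, 1, 4, 0, 5, 0, 5, 1, 4, 0, 4, 1, 5, 0, 5, 1, 4, 0, 4],
    [6, 9, 3, 1, 4, 9, 1, 9, 1, 5, 1, 5, 0, 4, 1, 4, 0, 2, 4, 3, 4, 2, 0, 3, 3, 1],
    [6, 5, 1, 5, 0, 4, 1, 4, 0, 6, 1, 5, 0, 5, 1, 4, 0, 4, 6, 5, 1, 5, 0, 4, 1, 4, 1],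
    [5, 1, 5, 0, 4, 1, 4, 0, 5, 1, 5, 0, 4, 1, 4, 0, 5, 1, 5, 0, 4, 1, 4, 0, 5, 1, 5, 0, 4, 1, 4, 0, 5, 1, 5, 0, 4, 1, 4, 0],
    [6, 5, 1, 5, 0, 4, 1, 4, 0, 6, 5, 1, 5, 0, 4, 1, 4, 0, 6, 5, 1, 5, 0, 4, 1, 4, 0, 6, 5, 1, 5, 0, 4, 1, 4, 0, 6, 5, 1, 5, 0, 4, 1, 4, 0],
    [0, 1],
    [1, 0],
    [2, 3],
    [3, 2],
    [4, 5],
    [5, 4],
    [6, 7],
    [7, 6],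
    [8, 9],
    [9, 8]] relWords

/-- The relators. -/
abbrev pres : Set (FreeGroup (Fin 5)) := relSet 5 relWords

theorem rels_mem : ∀ r ∈ letters.rels, r ∈ pres := fun _ h => h

theorem letters_col : ∀ a, letters.col a < letters.K ∧ letters.sym (letters.col a) = (a, true) := by
  decide +kernel

theorem letters_ok : letters.OK := by
  refine ⟨by decide +kernel, by decide +kernel, ?_, ?_, ?_⟩ <;> decide +kernel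

/-- The value of a word in `P`. -/
noncomputable abbrev val (l : List ℕ) : PresentedGroup pres := (l.map (letters.phi pres)).prod

end Cfsg.Agent.Lib.CosetEnum.LyP
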