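import Cfsg.Agent.Lib.CosetEnum.LyP.Pres
import Cfsg.Prelude.Def_Spor_Ly

/-! The map from `P` to the presented Lyons group. -/

set_option autoImplicit false
set_option maxRecDepth 20000

namespace Cfsg.Agent.Lib.CosetEnum.LyP

open Cfsg.Agent.Lib.CosetEnum Cfsg.Agent.Lib.ExactCover
open Cfsg.Spor

/-- The relator set of the presented group. -/
abbrev lyRels : Set (FreeGroup Ly.Gen) := coxRelators Ly.edges ∪ {r | r ∈ Ly.extra}

/-- The generators `a, b, c, d, e` as free generators. -/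
def abcde : Fin 5 → Ly.Gen := ![.a, .b, .c, .d, .e]

/-- Replace `c1, ..., c5` by their words. -/
def cSubst : Ly.Gen → FreeGroup Ly.Gen
  | .c1 => Ly.c
  | .c2 => Ly.a⁻¹ * Ly.c * Ly.a
  | .c3 => Ly.b⁻¹ * Ly.c * Ly.b
  | .c4 => (Ly.b⁻¹)⁻¹ * Ly.c * Ly.b⁻¹
  | .c5 => Ly.c⁻¹ * (Ly.a⁻¹ * Ly.c * Ly.a)⁻¹ * Ly.c * (Ly.a⁻¹ * Ly.c * Ly.a)
  | g => FreeGroup.of g

theorem relWords_map : ∀ p ∈ relWords.zip relIdx,
    FreeGroup.map abcde (FreeGroup.mk (p.1.map (stdSym 5))) =
      FreeGroup.lift cSubst (Ly.extra.getD (p.2 - 1) 1) ∧ p.2 - 1 < 86 := by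
  decide +kernel

theorem of_extra {r : FreeGroup Ly.Gen} (h : r ∈ Ly.extra) : PresentedGroup.mk lyRels r = 1 :=
  PresentedGroup.one_of_mem (Or.inr h)

theorem eq_of_extra {i : ℕ} (g w : FreeGroup Ly.Gen) (hi : Ly.extra[i]? = some (g * w⁻¹)) :
    PresentedGroup.mk lyRels g = PresentedGroup.mk lyRels w := by
  have h := of_extra (List.mem_of_getElem? hi)
  rwa [map_mul, map_inv, mul_inv_eq_one] at h

theorem mk_cSubst (r : FreeGroup Ly.Gen) :
    PresentedGroup.mk lyRels (FreeGroup.lift cSubst r) = PresentedGroup.mk lyRels r := by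
  suffices h : (PresentedGroup.mk lyRels).comp (FreeGroup.lift cSubst) = PresentedGroup.mk lyRels from
    DFunLike.congr_fun h r
  refine FreeGroup.ext_hom _ _ fun g => ?_
  have h1 := eq_of_extra (i := 5) Ly.c1 Ly.c rfl
  have h2 := eq_of_extra (i := 6) Ly.c2 (Ly.a⁻¹ * Ly.c * Ly.a) rfl
  have h3 := eq_of_extra (i := 7) Ly.c3 (Ly.b⁻¹ * Ly.c * Ly.b) rfl
  have h4 := eq_of_extra (i := 8) Ly.c4 ((Ly.b⁻¹)⁻¹ * Ly.c * Ly.b⁻¹) rfl
  have h5 := eq_of_extra (i := 9) Ly.c5 (Ly.c1⁻¹ * Ly.c2⁻¹ * Ly.c1 * Ly.c2) rfl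
  rw [MonoidHom.comp_apply, FreeGroup.lift_apply_of]
  cases g
  case c1 => exact h1.symm
  case c2 => exact h2.symm
  case c3 => exact h3.symm
  case c4 => exact h4.symm
  case c5 =>
    simp only [cSubst, map_mul, map_inv] at h1 h2 h5 ⊢
    rw [h5, h1, h2]
  all_goals rfl

theorem lift_abcde : ∀ r ∈ pres,
    FreeGroup.lift (fun i => (PresentedGroup.of (abcde i) : Ly)) r = 1 := by
  rintro r hr
  obtain ⟨l, hl, rfl⟩ := List.mem_map.1 hr
  obtain ⟨k, hk, rfl⟩ := List.mem_iff_getElem.1 hl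
  have hlen : relWords.length = relIdx.length := by decide +kernel
  obtain ⟨he, hlt⟩ := relWords_map (relWords[k], relIdx[k]'(hlen ▸ hk))
    (List.mem_iff_getElem.2 ⟨k, by simp [hk, ← hlen], by simp⟩)
  have h : FreeGroup.lift (fun i => (PresentedGroup.of (abcde i) : Ly)) =
      (PresentedGroup.mk lyRels).comp (FreeGroup.map abcde) :=
    FreeGroup.ext_hom _ _ fun i => by simp [PresentedGroup.of]
  have hex : Ly.extra.length = 86 := by decide +kernel
  rw [h, MonoidHom.comp_apply, he, mk_cSubst]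
  refine of_extra ?_
  rw [List.getD_eq_getElem _ _ (by omega)]
  exact List.getElem_mem _

/-- The map from `P`. -/
noncomputable def toLy : PresentedGroup pres →* Ly := PresentedGroup.toGroup lift_abcde

theorem toLy_of (i : Fin 5) : toLy (PresentedGroup.of i) = PresentedGroup.of (abcde i) :=
  PresentedGroup.toGroup.of lift_abcde

theorem val_gen (i : Fin 5) : val [2 * i.val] = PresentedGroup.of i := by
  rw [← Letters.phi_col (L := letters) (S := pres) letters_col]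
  simp [val]
  rfl

theorem toLy_val (i : Fin 5) : toLy (val [2 * i.val]) = PresentedGroup.of (abcde i) := by
  rw [val_gen, toLy_of]

theorem toLy_range_eq : toLy.range =
    (Subgroup.closure ({Ly.a, Ly.b, Ly.c, Ly.d} : Set (FreeGroup Ly.Gen))).map
      (PresentedGroup.mk lyRels) := by
  rw [MonoidHom.range_eq_map, ← PresentedGroup.closure_range_of pres, MonoidHom.map_closure,
    MonoidHom.map_closure]
  apply le_antisymm
  · refine (Subgroup.closure_le _).2 ?_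
    rintro _ ⟨_, ⟨i, rfl⟩, rfl⟩
    rw [SetLike.mem_coe, toLy_of]
    have key : ∀ g ∈ [Ly.a, Ly.b, Ly.c, Ly.d], PresentedGroup.mk lyRels g ∈
        Subgroup.closure (PresentedGroup.mk lyRels '' ({Ly.a, Ly.b, Ly.c, Ly.d} : Set (FreeGroup Ly.Gen))) :=
      fun g hg => Subgroup.subset_closure ⟨g, by simpa using hg, rfl⟩
    have ha := key Ly.a (by simp)
    have hb := key Ly.b (by simp)
    have hc := key Ly.c (by simp)
    have hd := key Ly.d (by simp)
    fin_cases i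
    · exact ha
    · exact hb
    · exact hc
    · exact hd
    · have he := eq_of_extra (i := 28) Ly.e
        ((Ly.b ^ 2)⁻¹ * (Ly.a⁻¹ * Ly.c1⁻¹ * Ly.a * Ly.c1) * Ly.a⁻¹ * Ly.c1 * Ly.a * Ly.d * Ly.c1 * Ly.b *
          Ly.a * Ly.b⁻¹ * Ly.d * Ly.c1 * Ly.d) rfl
      have h1 := eq_of_extra (i := 5) Ly.c1 Ly.c rfl
      show PresentedGroup.mk lyRels Ly.e ∈ _
      rw [he]
      simp only [map_mul, map_inv, map_pow, h1]
      repeat' first | apply Subgroup.mul_mem | apply Subgroup.inv_mem | apply Subgroup.pow_mem | assumption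
  · refine (Subgroup.closure_le _).2 ?_
    rintro _ ⟨g, hg, rfl⟩
    simp only [Set.mem_insert_iff, Set.mem_singleton_iff] at hg
    refine Subgroup.subset_closure ?_
    rcases hg with rfl | rfl | rfl | rfl
    · exact ⟨_, ⟨0, rfl⟩, toLy_of 0⟩
    · exact ⟨_, ⟨1, rfl⟩, toLy_of 1⟩
    · exact ⟨_, ⟨2, rfl⟩, toLy_of 2⟩
    · exact ⟨_, ⟨3, rfl⟩, toLy_of 3⟩

end Cfsg.Agent.Lib.CosetEnum.LyP
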