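import Cfsg.Agent.Lib.CosetEnum.LyP.Data
import Cfsg.Agent.Lib.CosetEnum.LyPSlp

/-! The action on 3906 points is a homomorphism. -/

set_option autoImplicit false
set_option maxRecDepth 20000
set_option Elab.async false

namespace Cfsg.Agent.Lib.CosetEnum.LyP

open Cfsg.Agent.Lib.CosetEnum

theorem perm_part0 : allFrom 0 3906 (permAt letters.K letters.IV 3906 table) = true := by decide +kernel

theorem perm_ok : permOK letters.K letters.IV 3906 table = true :=
  (allBelow_add (rfl : allBelow 0 (permAt letters.K letters.IV 3906 table) = true) perm_part0
    (by omega : 0 + 3906 = 3906))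

theorem rels_part0 : allFrom 0 400 (relAt letters.K table letters.RL) = true := by decide +kernel

theorem rels_part1 : allFrom 400 400 (relAt letters.K table letters.RL) = true := by decide +kernel

theorem rels_part2 : allFrom 800 400 (relAt letters.K table letters.RL) = true := by decide +kernel

theorem rels_part3 : allFrom 1200 400 (relAt letters.K table letters.RL) = true := by decide +kernel

theorem rels_part4 : allFrom 1600 400 (relAt letters.K table letters.RL) = true := by decide +kernel

theorem rels_part5 : allFrom 2000 400 (relAt letters.K table letters.RL) = true := by decide +kernel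

theorem rels_part6 : allFrom 2400 400 (relAt letters.K table letters.RL) = true := by decide +kernel

theorem rels_part7 : allFrom 2800 400 (relAt letters.K table letters.RL) = true := by decide +kernel

theorem rels_part8 : allFrom 3200 400 (relAt letters.K table letters.RL) = true := by decide +kernel

theorem rels_part9 : allFrom 3600 306 (relAt letters.K table letters.RL) = true := by decide +kernel

theorem rels_ok : relsOK letters.K 3906 table letters.RL = true :=
  (allBelow_add (allBelow_add (allBelow_add (allBelow_add (allBelow_add (allBelow_add (allBelow_add (allBelow_add (allBelow_add (allBelow_add (rfl : allBelow 0 (relAt letters.K table letters.RL) = true) rels_part0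
    (by omega : 0 + 400 = 400)) rels_part1
    (by omega : 400 + 400 = 800)) rels_part2
    (by omega : 800 + 400 = 1200)) rels_part3
    (by omega : 1200 + 400 = 1600)) rels_part4
    (by omega : 1600 + 400 = 2000)) rels_part5
    (by omega : 2000 + 400 = 2400)) rels_part6
    (by omega : 2400 + 400 = 2800)) rels_part7
    (by omega : 2800 + 400 = 3200)) rels_part8
    (by omega : 3200 + 400 = 3600)) rels_part9
    (by omega : 3600 + 306 = 3906))

theorem table_ok : TableOK letters 3906 table where
  col := letters_col
  symcol := by decide +kernel
  invol := by decide +kernel
  perm := perm_ok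
  rel l hl i hi := relsOK_rel rels_ok hi hl

/-- The action on 3906 points. -/
noncomputable def act : PresentedGroup pres →* Equiv.Perm (Fin 3906) :=
  PresentedGroup.toGroup (f := table_ok.genPerm) fun _ hr => table_ok.lift_rel letters_ok hr

theorem act_phi (g : ℕ) (hg : g < letters.K) (i : Fin 3906) :
    ((act (letters.phi pres g))⁻¹ i).1 = get32 table (i.1 * letters.K + g) := by
  rw [Letters.phi_of_lt hg]
  have h : act (PresentedGroup.mk pres (FreeGroup.mk [letters.sym g])) =
      FreeGroup.lift table_ok.genPerm (FreeGroup.mk [letters.sym g]) := rfl
  rw [h, table_ok.lift_sym hg]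
  rfl

theorem act_card_ge : 5859000000 ≤ Nat.card act.range :=
  LyPSlp.card_ge act _ act_phi

end Cfsg.Agent.Lib.CosetEnum.LyP
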